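/-
The group of points of a commutative Hopf algebra, semi-invariants of a Hopf ideal.
-/
import Groth.Agent.HopfFFLib.Consequences
import Mathlib.RingTheory.HopfAlgebra.Quotient

set_option autoImplicit false

universe u v w

open TensorProduct WithConv

namespace Groth.Agent.HopfFF

variable {k : Type u} [Field k] {A : Type u} [CommRing A] [HopfAlgebra k A]

/-- Points with values in a commutative algebra form a group. -/
@[reducible] noncomputable def pointsGroup {R : Type v} [CommRing R] [Algebra k R] :
    Group (WithConv (A →ₐ[k] R)) :=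
  { (inferInstance : Monoid (WithConv (A →ₐ[k] R))) with
    inv := fun f => toConv (f.ofConv.comp (HopfAlgebra.antipodeAlgHom k A))
    inv_mul_cancel := fun f => conv_comp_antipode_mul f.ofConv }

theorem map_comp_comul {C : Type v} [CommRing C] [Algebra k C] {D : Type w} [CommRing D]
    [Algebra k D] (f : A →ₐ[k] C) (g : A →ₐ[k] D) :
    toConv ((Algebra.TensorProduct.map f g).comp (Bialgebra.comulAlgHom k A)) =
      toConv ((Algebra.TensorProduct.includeLeft : C →ₐ[k] C ⊗[k] D).comp f) *
        toConv ((Algebra.TensorProduct.includeRight : D →ₐ[k] C ⊗[k] D).comp g) := by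
  apply WithConv.ext
  apply AlgHom.ext
  intro a
  show _ = (toConv ((Algebra.TensorProduct.includeLeft : C →ₐ[k] C ⊗[k] D).comp f) *
    toConv ((Algebra.TensorProduct.includeRight : D →ₐ[k] C ⊗[k] D).comp g)) a
  rw [AlgHom.convMul_apply]
  simp only [ofConv_toConv, AlgHom.comp_apply, Bialgebra.comulAlgHom_apply]
  generalize CoalgebraStruct.comul (R := k) a = z
  induction z using TensorProduct.induction_on with
  | zero => simp
  | add z w hz hw => simp only [map_add, hz, hw]
  | tmul x y => simp

theorem comp_convPoint {R : Type v} [CommRing R] [Algebra k R] {R' : Type w} [CommRing R']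
    [Algebra k R'] (φ : R →ₐ[k] R') (f g : WithConv (A →ₐ[k] R)) :
    toConv (φ.comp (f * g).ofConv) = toConv (φ.comp f.ofConv) * toConv (φ.comp g.ofConv) := by
  rw [AlgHom.comp_convMul_distrib]

theorem comp_one {R : Type v} [CommRing R] [Algebra k R] {R' : Type w} [CommRing R']
    [Algebra k R'] (φ : R →ₐ[k] R') :
    toConv (φ.comp (1 : WithConv (A →ₐ[k] R)).ofConv) = 1 := by
  apply WithConv.ext
  apply AlgHom.ext
  intro a
  simp

theorem conv3_eq {C : Type u} [CommRing C] [Algebra k C] (f g h : A →ₐ[k] C) :
    Dyn.conv3 k A f g h = (toConv f * toConv g * toConv h).ofConv := by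
  apply AlgHom.ext
  intro a
  show _ = (toConv f * toConv g * toConv h) a
  rw [AlgHom.convMul_apply]
  simp only [Dyn.conv3, AlgHom.comp_apply, Bialgebra.comulAlgHom_apply, ofConv_toConv]
  generalize CoalgebraStruct.comul (R := k) a = z
  induction z using TensorProduct.induction_on with
  | zero => simp
  | add z w hz hw => simp only [map_add, hz, hw]
  | tmul x y =>
    simp only [Algebra.TensorProduct.map_tmul, AlgHom.comp_apply, AlgHom.id_apply,
      Algebra.TensorProduct.lmul'_apply_tmul]
    simp only [Algebra.TensorProduct.lift_tmul]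
    congr 1

section ideal

variable (I : Ideal A) [I.IsHopfIdeal k]

/-- The quotient map. -/
noncomputable def qmap : A →ₐ[k] A ⧸ I := Ideal.Quotient.mkₐ k I

theorem qmap_eq_zero {a : A} : qmap (k := k) I a = 0 ↔ a ∈ I := Ideal.Quotient.eq_zero_iff_mem

/-- A semi-invariant of weight `χ` for right translation by the subgroup. -/
def Semi (χ : A ⧸ I) (a : A) : Prop :=
  Algebra.TensorProduct.map (AlgHom.id k A) (qmap (k := k) I) (CoalgebraStruct.comul (R := k) a) =
    a ⊗ₜ[k] χ

variable {I}

theorem semi_apply {χ : A ⧸ I} {a : A} (ha : Semi (k := k) I χ a) {R : Type v} [CommRing R]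
    [Algebra k R] (g : A →ₐ[k] R) (h : (A ⧸ I) →ₐ[k] R) :
    (toConv g * toConv (h.comp (qmap I))).ofConv a = g a * h χ := by
  have key : ∀ z : A ⊗[k] A,
      Algebra.TensorProduct.lift g (h.comp (qmap I)) (fun _ _ => Commute.all _ _) z =
        Algebra.TensorProduct.productMap g h
          (Algebra.TensorProduct.map (AlgHom.id k A) (qmap (k := k) I) z) := by
    intro z
    induction z using TensorProduct.induction_on with
    | zero => simp
    | add z w hz hw => simp only [map_add, hz, hw]
    | tmul x y => simp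
  show (toConv g * toConv (h.comp (qmap I))) a = _
  rw [AlgHom.convMul_apply]
  simp only [ofConv_toConv]
  rw [key, ha, Algebra.TensorProduct.productMap_apply_tmul]

theorem semi_of_apply {χ : A ⧸ I} {a : A}
    (h : ∀ (R : Type u) [CommRing R] [Algebra k R] (g : A →ₐ[k] R) (h : (A ⧸ I) →ₐ[k] R),
      (toConv g * toConv (h.comp (qmap I))).ofConv a = g a * h χ) : Semi (k := k) I χ a := by
  have h1 := h (A ⊗[k] (A ⧸ I)) Algebra.TensorProduct.includeLeft
    Algebra.TensorProduct.includeRight
  rw [← AlgHom.comp_id (Algebra.TensorProduct.includeLeft : A →ₐ[k] A ⊗[k] (A ⧸ I)),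
    ← map_comp_comul] at h1
  unfold Semi
  simpa using h1

theorem semi_one : Semi (k := k) I 1 1 := by
  simp [Semi, Algebra.TensorProduct.one_def]

theorem semi_mul {χ ψ : A ⧸ I} {a b : A} (ha : Semi (k := k) I χ a) (hb : Semi (k := k) I ψ b) :
    Semi (k := k) I (χ * ψ) (a * b) := by
  unfold Semi at *
  rw [Bialgebra.comul_mul, map_mul, ha, hb, Algebra.TensorProduct.tmul_mul_tmul]

theorem semi_pow {χ : A ⧸ I} {a : A} (ha : Semi (k := k) I χ a) (n : ℕ) :
    Semi (k := k) I (χ ^ n) (a ^ n) := by
  induction n with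
  | zero => simpa using semi_one
  | succ n ih => rw [pow_succ, pow_succ]; exact semi_mul ih ha

theorem semi_prod {ι : Type w} (s : Finset ι) (χ : ι → A ⧸ I) (a : ι → A)
    (h : ∀ i ∈ s, Semi (k := k) I (χ i) (a i)) :
    Semi (k := k) I (∏ i ∈ s, χ i) (∏ i ∈ s, a i) := by
  classical
  induction s using Finset.induction_on with
  | empty => simpa using semi_one
  | insert i s hi ih =>
    rw [Finset.prod_insert hi, Finset.prod_insert hi]
    exact semi_mul (h i (Finset.mem_insert_self _ _))
      (ih fun j hj => h j (Finset.mem_insert_of_mem hj))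

theorem semi_qmap {χ : A ⧸ I} {a : A} (ha : Semi (k := k) I χ a) :
    qmap (k := k) I a = CoalgebraStruct.counit (R := k) a • χ := by
  have h := semi_apply ha
    ((Algebra.ofId k (A ⧸ I)).comp (Bialgebra.counitAlgHom k A)) (AlgHom.id k (A ⧸ I))
  rw [show toConv ((Algebra.ofId k (A ⧸ I)).comp (Bialgebra.counitAlgHom k A)) = 1 from rfl,
    one_mul] at h
  simpa [Algebra.smul_def] using h

theorem isGroupLike_of_semi {χ : A ⧸ I} {a : A} (ha : Semi (k := k) I χ a)
    (hε : CoalgebraStruct.counit (R := k) a = 1) : IsGroupLikeElem k χ := by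
  have hπ : qmap (k := k) I a = χ := by rw [semi_qmap ha, hε, one_smul]
  refine ⟨?_, ?_⟩
  · rw [← hπ]
    exact (Bialgebra.Quotient.counit_mk I a).trans hε
  · have h1 : CoalgebraStruct.comul (R := k) χ =
        Algebra.TensorProduct.map (qmap (k := k) I) (qmap (k := k) I)
          (CoalgebraStruct.comul (R := k) a) := by
      rw [← hπ]
      exact Bialgebra.Quotient.comul_mk I a
    have h2 : ∀ z : A ⊗[k] A, Algebra.TensorProduct.map (qmap (k := k) I) (qmap (k := k) I) z =
        Algebra.TensorProduct.map (qmap (k := k) I) (AlgHom.id k (A ⧸ I))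
          (Algebra.TensorProduct.map (AlgHom.id k A) (qmap (k := k) I) z) := by
      intro z
      induction z using TensorProduct.induction_on with
      | zero => simp
      | add z w hz hw => simp only [map_add, hz, hw]
      | tmul x y => simp
    rw [h1, h2, ha, Algebra.TensorProduct.map_tmul, hπ]
    rfl

variable (k) in
/-- The coinvariants of the subgroup. -/
noncomputable def coinv (I : Ideal A) [I.IsHopfIdeal k] : Subalgebra k A :=
  AlgHom.equalizer ((Algebra.TensorProduct.map (AlgHom.id k A) (qmap (k := k) I)).comp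
    (Bialgebra.comulAlgHom k A)) Algebra.TensorProduct.includeLeft

theorem mem_coinv {a : A} : a ∈ coinv k I ↔ Semi (k := k) I 1 a := Iff.rfl

theorem coinv_eq_set : (coinv k I : Set A) =
    {x : A | CoalgebraStruct.comul (R := k) (A := A) x - x ⊗ₜ[k] (1 : A) ∈
      LinearMap.range (LinearMap.lTensor A (I.restrictScalars k).subtype)} := by
  ext x
  have hex : Function.Exact (LinearMap.lTensor A (I.restrictScalars k).subtype)
      (LinearMap.lTensor A (qmap (k := k) I).toLinearMap) := by
    refine lTensor_exact A (fun y => ?_) Ideal.Quotient.mk_surjective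
    show qmap (k := k) I y = 0 ↔ _
    rw [qmap_eq_zero]
    exact ⟨fun h => ⟨⟨y, h⟩, rfl⟩, fun ⟨z, hz⟩ => hz ▸ z.2⟩
  rw [Set.mem_ofPred_eq, LinearMap.mem_range, SetLike.mem_coe, mem_coinv]
  have h2 : ∀ z : A ⊗[k] A, LinearMap.lTensor A (qmap (k := k) I).toLinearMap z =
      Algebra.TensorProduct.map (AlgHom.id k A) (qmap (k := k) I) z := by
    intro z
    induction z using TensorProduct.induction_on with
    | zero => simp
    | add z w hz hw => simp only [map_add, hz, hw]
    | tmul x y => simp
  rw [show (∃ y, (LinearMap.lTensor A (I.restrictScalars k).subtype) y =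
      CoalgebraStruct.comul (R := k) x - x ⊗ₜ[k] (1 : A)) ↔ _ from (hex _).symm, h2, map_sub,
    sub_eq_zero, Algebra.TensorProduct.map_tmul, map_one, AlgHom.id_apply]
  rfl

theorem sub_one_mem_of_mem_coinv {x : A} (hx : x ∈ coinv k I) :
    x - algebraMap k A (CoalgebraStruct.counit (R := k) x) ∈ I := by
  rw [← qmap_eq_zero (k := k), map_sub, semi_qmap hx, AlgHom.commutes, Algebra.smul_def, mul_one,
    sub_self]

theorem augSpan_coinv_le : SGA3.augIdealSpan k A (coinv k I) ≤ I := by
  refine Ideal.span_le.2 ?_
  rintro x ⟨hx, hε⟩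
  have := sub_one_mem_of_mem_coinv hx
  rwa [hε, map_zero, sub_zero] at this

end ideal

end Groth.Agent.HopfFF
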