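/-
Coinvariants of a normal Hopf ideal form a sub-Hopf-algebra.
-/
import Groth.Agent.HopfFFLib.Normal.Points

set_option autoImplicit false

universe u

open TensorProduct WithConv

namespace Groth.Agent.HopfFF

attribute [local instance] pointsGroup

variable {k : Type u} [Field k] {A : Type u} [CommRing A] [HopfAlgebra k A]
  {I : Ideal A} [I.IsHopfIdeal k]

/-- Conjugating a point of the subgroup by a point gives a point of the subgroup. -/
theorem exists_conj (hI : SGA3.IsNormalHopfIdeal k A I) {R : Type u} [CommRing R] [Algebra k R]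
    (g : WithConv (A →ₐ[k] R)) (h : (A ⧸ I) →ₐ[k] R) :
    ∃ h' : (A ⧸ I) →ₐ[k] R,
      g * toConv (h.comp (qmap I)) * g⁻¹ = toConv (h'.comp (qmap I)) := by
  have hz : ∀ a ∈ I, (g * toConv (h.comp (qmap I)) * g⁻¹).ofConv a = 0 := by
    intro a ha
    have := hI R g.ofConv (h.comp (qmap I)) (fun b hb => by
      rw [AlgHom.comp_apply, (qmap_eq_zero (k := k) I).2 hb, map_zero]) a ha
    rw [conv3_eq] at this
    exact this
  refine ⟨Ideal.Quotient.liftₐ I _ hz, ?_⟩
  apply WithConv.ext
  apply AlgHom.ext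
  intro a
  rfl

theorem inv_comp_qmap {R : Type u} [CommRing R] [Algebra k R] (h : (A ⧸ I) →ₐ[k] R) :
    (toConv (h.comp (qmap I)))⁻¹ =
      toConv ((h.comp (HopfAlgebra.antipodeAlgHom k (A ⧸ I))).comp (qmap I)) := by
  apply WithConv.ext
  apply AlgHom.ext
  intro a
  exact congrArg h (HopfAlgebra.Quotient.antipode_mk (R := k) I a).symm

variable (hI : SGA3.IsNormalHopfIdeal k A I)
include hI

/-- Right invariants are left invariants. -/
theorem left_invariant {x : A} (hx : x ∈ coinv k I) {R : Type u} [CommRing R] [Algebra k R]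
    (g g' : WithConv (A →ₐ[k] R)) (h : (A ⧸ I) →ₐ[k] R) :
    (g * toConv (h.comp (qmap I)) * g').ofConv x = (g * g').ofConv x := by
  obtain ⟨h', hh'⟩ := exists_conj hI g'⁻¹ h
  rw [inv_inv] at hh'
  have e : g * toConv (h.comp (qmap I)) * g' = g * g' * toConv (h'.comp (qmap I)) := by
    rw [← hh']
    group
  rw [e]
  have := semi_apply (mem_coinv.1 hx) (g * g').ofConv h'
  rw [toConv_ofConv, map_one, mul_one] at this
  exact this

theorem antipode_mem_coinv {x : A} (hx : x ∈ coinv k I) :
    HopfAlgebraStruct.antipode (R := k) x ∈ coinv k I := by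
  rw [mem_coinv]
  refine semi_of_apply fun R _ _ g h => ?_
  rw [map_one, mul_one]
  show ((toConv g * toConv (h.comp (qmap I)))⁻¹).ofConv x = ((toConv g)⁻¹).ofConv x
  rw [mul_inv_rev, inv_comp_qmap]
  obtain ⟨h', hh'⟩ := exists_conj hI (toConv g) (h.comp (HopfAlgebra.antipodeAlgHom k (A ⧸ I)))
  have e : toConv ((h.comp (HopfAlgebra.antipodeAlgHom k (A ⧸ I))).comp (qmap I)) * (toConv g)⁻¹ =
      (toConv g)⁻¹ * toConv (h'.comp (qmap I)) := by
    rw [← hh']
    group
  rw [e]
  have := semi_apply (mem_coinv.1 hx) ((toConv g)⁻¹).ofConv h'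
  rw [toConv_ofConv, map_one, mul_one] at this
  exact this

theorem left_key {x : A} (hx : x ∈ coinv k I) {R : Type u} [CommRing R] [Algebra k R]
    (i₁ : A →ₐ[k] R) (i₂ : A ⊗[k] (A ⧸ I) →ₐ[k] R) :
    (toConv i₁ * toConv (i₂.comp ((Algebra.TensorProduct.map (AlgHom.id k A) (qmap (k := k) I)).comp
      (Bialgebra.comulAlgHom k A)))).ofConv x =
    (toConv i₁ * toConv (i₂.comp Algebra.TensorProduct.includeLeft)).ofConv x := by
  have hF : toConv (i₂.comp ((Algebra.TensorProduct.map (AlgHom.id k A) (qmap (k := k) I)).comp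
      (Bialgebra.comulAlgHom k A))) = toConv (i₂.comp Algebra.TensorProduct.includeLeft) *
      toConv ((i₂.comp Algebra.TensorProduct.includeRight).comp (qmap I)) := by
    rw [show ((Algebra.TensorProduct.map (AlgHom.id k A) (qmap (k := k) I)).comp
      (Bialgebra.comulAlgHom k A)) = (toConv ((Algebra.TensorProduct.map (AlgHom.id k A)
        (qmap (k := k) I)).comp (Bialgebra.comulAlgHom k A))).ofConv from rfl, map_comp_comul,
      comp_convPoint]
    rfl
  rw [hF, ← mul_assoc]
  have := semi_apply (mem_coinv.1 hx)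
    (toConv i₁ * toConv (i₂.comp Algebra.TensorProduct.includeLeft)).ofConv
    (i₂.comp Algebra.TensorProduct.includeRight)
  rw [toConv_ofConv, map_one, mul_one] at this
  exact this

theorem right_key {x : A} (hx : x ∈ coinv k I) {R : Type u} [CommRing R] [Algebra k R]
    (i₁ : A ⊗[k] (A ⧸ I) →ₐ[k] R) (i₂ : A →ₐ[k] R) :
    (toConv (i₁.comp ((Algebra.TensorProduct.map (AlgHom.id k A) (qmap (k := k) I)).comp
      (Bialgebra.comulAlgHom k A))) * toConv i₂).ofConv x =
    (toConv (i₁.comp Algebra.TensorProduct.includeLeft) * toConv i₂).ofConv x := by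
  have hF : toConv (i₁.comp ((Algebra.TensorProduct.map (AlgHom.id k A) (qmap (k := k) I)).comp
      (Bialgebra.comulAlgHom k A))) = toConv (i₁.comp Algebra.TensorProduct.includeLeft) *
      toConv ((i₁.comp Algebra.TensorProduct.includeRight).comp (qmap I)) := by
    rw [show ((Algebra.TensorProduct.map (AlgHom.id k A) (qmap (k := k) I)).comp
      (Bialgebra.comulAlgHom k A)) = (toConv ((Algebra.TensorProduct.map (AlgHom.id k A)
        (qmap (k := k) I)).comp (Bialgebra.comulAlgHom k A))).ofConv from rfl, map_comp_comul,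
      comp_convPoint]
    rfl
  rw [hF]
  exact left_invariant hI hx _ _ _

omit hI in
theorem exact_coinv : Function.Exact (coinv k I).val.toLinearMap
    (((Algebra.TensorProduct.map (AlgHom.id k A) (qmap (k := k) I)).comp
      (Bialgebra.comulAlgHom k A)).toLinearMap -
        (Algebra.TensorProduct.includeLeft : A →ₐ[k] A ⊗[k] (A ⧸ I)).toLinearMap) := by
  intro y
  rw [LinearMap.sub_apply, sub_eq_zero]
  exact ⟨fun h => ⟨⟨y, h⟩, rfl⟩, fun ⟨z, hz⟩ => hz ▸ z.2⟩

theorem comul_mem_left {x : A} (hx : x ∈ coinv k I) :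
    CoalgebraStruct.comul (R := k) x ∈
      LinearMap.range (LinearMap.lTensor A (coinv k I).val.toLinearMap) := by
  refine (Module.Flat.lTensor_exact A exact_coinv _).1 ?_
  refine (LinearMap.congr_fun (LinearMap.lTensor_sub _ _) _).trans (sub_eq_zero.2 ?_)
  refine ((congrArg (fun f : WithConv (A →ₐ[k] _) => f.ofConv x)
    (map_comp_comul (AlgHom.id k A) ((Algebra.TensorProduct.map (AlgHom.id k A)
      (qmap (k := k) I)).comp (Bialgebra.comulAlgHom k A)))).trans ?_).trans
    (congrArg (fun f : WithConv (A →ₐ[k] _) => f.ofConv x)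
      (map_comp_comul (AlgHom.id k A)
        (Algebra.TensorProduct.includeLeft : A →ₐ[k] A ⊗[k] (A ⧸ I)))).symm
  exact left_key hI hx _ _

theorem comul_mem_right {x : A} (hx : x ∈ coinv k I) :
    CoalgebraStruct.comul (R := k) x ∈
      LinearMap.range (LinearMap.rTensor A (coinv k I).val.toLinearMap) := by
  refine (Module.Flat.rTensor_exact A exact_coinv _).1 ?_
  refine (LinearMap.congr_fun (LinearMap.rTensor_sub _ _) _).trans (sub_eq_zero.2 ?_)
  refine ((congrArg (fun f : WithConv (A →ₐ[k] _) => f.ofConv x)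
    (map_comp_comul ((Algebra.TensorProduct.map (AlgHom.id k A)
      (qmap (k := k) I)).comp (Bialgebra.comulAlgHom k A)) (AlgHom.id k A))).trans ?_).trans
    (congrArg (fun f : WithConv (A →ₐ[k] _) => f.ofConv x)
      (map_comp_comul (Algebra.TensorProduct.includeLeft : A →ₐ[k] A ⊗[k] (A ⧸ I))
        (AlgHom.id k A))).symm
  exact right_key hI hx _ _

/-- The coinvariants of a normal Hopf ideal are a sub-Hopf-algebra. -/
theorem isSubHopf_coinv : IsSubHopf k A (coinv k I) := by
  refine ⟨fun x hx => ?_, fun x hx => antipode_mem_coinv hI hx⟩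
  obtain ⟨P, hP⟩ := LinearMap.exists_leftInverse_of_injective (coinv k I).val.toLinearMap
    (LinearMap.ker_eq_bot.2 Subtype.val_injective)
  let ι := (coinv k I).val.toLinearMap
  have hP' : ∀ b, P (ι b) = b := fun b => LinearMap.congr_fun hP b
  obtain ⟨w, hw⟩ := comul_mem_left hI hx
  obtain ⟨v, hv⟩ := comul_mem_right hI hx
  refine ⟨TensorProduct.map P P (CoalgebraStruct.comul (R := k) x), ?_⟩
  have h1 : LinearMap.lTensor A (ι ∘ₗ P) (CoalgebraStruct.comul (R := k) x) =
      CoalgebraStruct.comul (R := k) x := by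
    rw [← hw, ← LinearMap.comp_apply, ← LinearMap.lTensor_comp, LinearMap.comp_assoc]
    congr 2
    exact LinearMap.ext fun b => congrArg (coinv k I).val (hP' b)
  have h2 : LinearMap.rTensor A (ι ∘ₗ P) (CoalgebraStruct.comul (R := k) x) =
      CoalgebraStruct.comul (R := k) x := by
    rw [← hv, ← LinearMap.comp_apply, ← LinearMap.rTensor_comp, LinearMap.comp_assoc]
    congr 2
    exact LinearMap.ext fun b => congrArg (coinv k I).val (hP' b)
  rw [← LinearMap.comp_apply, ← TensorProduct.map_comp, ← LinearMap.lTensor_comp_rTensor,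
    LinearMap.comp_apply, h2, h1]

end Groth.Agent.HopfFF
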