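/-
Hopf ideals and coinvariants under extension of the ground field.
-/
import Groth.Agent.HopfFFLib.Normal.Coinvariants
import Mathlib.RingTheory.HopfAlgebra.TensorProduct

set_option autoImplicit false

universe u

open TensorProduct WithConv

namespace Groth.Agent.HopfFF

attribute [local instance] pointsGroup

variable {k : Type u} [Field k] {A : Type u} [CommRing A] [HopfAlgebra k A]
  {K : Type u} [Field K] [Algebra k K]

section res

variable {R : Type u} [CommRing R] [Algebra K R] [Algebra k R] [IsScalarTower k K R]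

/-- The restriction of a point of the extended algebra. -/
noncomputable def res (F : WithConv (K ⊗[k] A →ₐ[K] R)) : WithConv (A →ₐ[k] R) :=
  toConv ((F.ofConv.restrictScalars k).comp Algebra.TensorProduct.includeRight)

theorem res_apply (F : WithConv (K ⊗[k] A →ₐ[K] R)) (a : A) :
    (res F).ofConv a = F.ofConv ((1 : K) ⊗ₜ[k] a) := rfl

theorem res_mul (F G : WithConv (K ⊗[k] A →ₐ[K] R)) : res (F * G) = res F * res G := by
  apply WithConv.ext
  apply AlgHom.ext
  intro a
  show (F * G) ((1 : K) ⊗ₜ[k] a) = (res F * res G) a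
  rw [AlgHom.convMul_apply, AlgHom.convMul_apply]
  simp only [TensorProduct.comul_tmul, Bialgebra.comul_one, Algebra.TensorProduct.one_def]
  generalize CoalgebraStruct.comul (R := k) a = z
  induction z using TensorProduct.induction_on with
  | zero => simp
  | add z w hz hw => simp only [tmul_add, map_add, hz, hw]
  | tmul x y => simp [res]

theorem res_inv (F : WithConv (K ⊗[k] A →ₐ[K] R)) : res F⁻¹ = (res F)⁻¹ := by
  apply WithConv.ext
  apply AlgHom.ext
  intro a
  show F.ofConv (HopfAlgebraStruct.antipode (R := K) ((1 : K) ⊗ₜ[k] a)) = _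
  rw [TensorProduct.antipode_def]
  simp
  rfl

end res

variable (k K) in
/-- The extension of an ideal. -/
noncomputable def extIdeal (I : Ideal A) : Ideal (K ⊗[k] A) :=
  I.map (Algebra.TensorProduct.includeRight : A →ₐ[k] K ⊗[k] A)

variable (I : Ideal A) [I.IsHopfIdeal k]

omit [I.IsHopfIdeal k] in
theorem forall_res_eq_zero {R : Type u} [CommRing R] [Algebra K R] [Algebra k R]
    [IsScalarTower k K R] (F : WithConv (K ⊗[k] A →ₐ[K] R))
    (hF : ∀ z ∈ extIdeal k K I, F.ofConv z = 0) : ∀ a ∈ I, (res F).ofConv a = 0 :=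
  fun a ha => hF _ (Ideal.mem_map_of_mem _ ha)

omit [I.IsHopfIdeal k] in
theorem forall_eq_zero_of_res {R : Type u} [CommRing R] [Algebra K R] [Algebra k R]
    [IsScalarTower k K R] (F : WithConv (K ⊗[k] A →ₐ[K] R))
    (hF : ∀ a ∈ I, (res F).ofConv a = 0) : ∀ z ∈ extIdeal k K I, F.ofConv z = 0 :=
  fun z hz => by
  have h : extIdeal k K I ≤ RingHom.ker F.ofConv :=
    Ideal.map_le_iff_le_comap.2 fun a ha => hF a ha
  exact h hz

/-- Points killing the ideal are closed under products. -/
theorem mul_eq_zero_of_res {R : Type u} [CommRing R] [Algebra K R] [Algebra k R]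
    [IsScalarTower k K R] (F G : WithConv (K ⊗[k] A →ₐ[K] R))
    (hF : ∀ a ∈ I, (res F).ofConv a = 0) (hG : ∀ a ∈ I, (res G).ofConv a = 0) :
    ∀ z ∈ extIdeal k K I, (F * G).ofConv z = 0 := by
  refine forall_eq_zero_of_res I _ fun a ha => ?_
  rw [res_mul]
  let f := Ideal.Quotient.liftₐ I _ hF
  let g := Ideal.Quotient.liftₐ I _ hG
  have h := AlgHom.convMul_comp_bialgHom_distrib (toConv f) (toConv g)
    (Bialgebra.Quotient.mkBialgHom (R := k) I)
  refine Eq.trans ?_ ((congrArg (toConv f * toConv g).ofConv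
    ((qmap_eq_zero (k := k) I).2 ha)).trans (map_zero _))
  exact (AlgHom.congr_fun h a).symm

instance isHopfIdeal_extIdeal : (extIdeal k K I).IsHopfIdeal K := by
  let J := extIdeal k K I
  let π : K ⊗[k] A →ₐ[K] (K ⊗[k] A) ⧸ J := Ideal.Quotient.mkₐ K J
  have hπ : ∀ a ∈ I, π ((1 : K) ⊗ₜ[k] a) = 0 := fun a ha =>
    Ideal.Quotient.eq_zero_iff_mem.2 (Ideal.mem_map_of_mem _ ha)
  refine { counit_eq_zero := ?_, map_mkQ_comul_eq_zero := ?_, antipode_mem := ?_ }
  · intro z hz
    exact forall_eq_zero_of_res (K := K) I (toConv (Bialgebra.counitAlgHom K (K ⊗[k] A)))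
      (fun a ha => by
        rw [res_apply]
        simp [Submodule.IsCoideal.counit_eq_zero (I := I.restrictScalars k) ha]) z hz
  · intro z hz
    have h := mul_eq_zero_of_res I (R := ((K ⊗[k] A) ⧸ J) ⊗[K] ((K ⊗[k] A) ⧸ J))
      (toConv ((Algebra.TensorProduct.includeLeft :
        ((K ⊗[k] A) ⧸ J) →ₐ[K] ((K ⊗[k] A) ⧸ J) ⊗[K] ((K ⊗[k] A) ⧸ J)).comp π))
      (toConv ((Algebra.TensorProduct.includeRight :
        ((K ⊗[k] A) ⧸ J) →ₐ[K] ((K ⊗[k] A) ⧸ J) ⊗[K] ((K ⊗[k] A) ⧸ J)).comp π))
      (fun b hb => by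
        show (π ((1 : K) ⊗ₜ[k] b)) ⊗ₜ[K] (1 : (K ⊗[k] A) ⧸ J) = 0
        rw [hπ b hb, zero_tmul])
      (fun b hb => by
        show (1 : (K ⊗[k] A) ⧸ J) ⊗ₜ[K] (π ((1 : K) ⊗ₜ[k] b)) = 0
        rw [hπ b hb, tmul_zero]) z hz
    rw [← map_comp_comul] at h
    exact h
  · intro z hz
    refine (Ideal.map_le_iff_le_comap (K := J.comap (HopfAlgebra.antipodeAlgHom K (K ⊗[k] A)))).2
      (fun a ha => ?_) hz
    show HopfAlgebraStruct.antipode (R := K) ((1 : K) ⊗ₜ[k] a) ∈ J
    rw [TensorProduct.antipode_def]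
    have := Ideal.mem_map_of_mem (Algebra.TensorProduct.includeRight : A →ₐ[k] K ⊗[k] A)
      (Ideal.IsHopfIdeal.antipode_mem (R := k) ha)
    simpa [J, extIdeal] using this

theorem isNormal_extIdeal (hI : SGA3.IsNormalHopfIdeal k A I) :
    SGA3.IsNormalHopfIdeal K (K ⊗[k] A) (extIdeal k K I) := by
  intro R _ _ g h hh z hz
  let : Algebra k R := ((algebraMap K R).comp (algebraMap k K)).toAlgebra
  have : IsScalarTower k K R := IsScalarTower.of_algebraMap_eq fun _ => rfl
  rw [conv3_eq]
  refine forall_eq_zero_of_res I _ (fun a ha => ?_) z hz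
  have h1 := hI R (res (toConv g)).ofConv (res (toConv h)).ofConv
    (forall_res_eq_zero I (toConv h) hh) a ha
  rw [conv3_eq, toConv_ofConv, toConv_ofConv] at h1
  rw [toConv_ofConv, res_mul, res_mul,
    show toConv (g.comp (HopfAlgebra.antipodeAlgHom K (K ⊗[k] A))) = (toConv g)⁻¹ from rfl,
    res_inv]
  exact h1

/-- The extension of a point. -/
noncomputable def extPt {R : Type u} [CommRing R] [Algebra k R] (g : A →ₐ[k] R) :
    WithConv (K ⊗[k] A →ₐ[K] K ⊗[k] R) :=
  toConv (Algebra.TensorProduct.map (AlgHom.id K K) g)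

theorem res_extPt {R : Type u} [CommRing R] [Algebra k R] (g : A →ₐ[k] R) :
    res (extPt (K := K) g) =
      toConv ((Algebra.TensorProduct.includeRight : R →ₐ[k] K ⊗[k] R).comp g) := by
  apply WithConv.ext
  apply AlgHom.ext
  intro a
  simp [res, extPt]

/-- Coinvariants of the extended ideal have their coordinates in the coinvariants. -/
theorem coord_mem_coinv {ι : Type u} (c : Module.Basis ι k K) {z : K ⊗[k] A}
    (hz : z ∈ coinv K (extIdeal k K I)) (i : ι) :
    TensorProduct.lid k A ((c.coord i).rTensor A z) ∈ coinv k I := by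
  rw [mem_coinv]
  refine semi_of_apply fun R _ _ g h => ?_
  rw [map_one, mul_one]
  let G := extPt (K := K) g
  let H := extPt (K := K) (h.comp (qmap I))
  have hH : ∀ w ∈ extIdeal k K I, H.ofConv w = 0 := forall_eq_zero_of_res I H fun a ha => by
    rw [res_extPt]
    simp [(qmap_eq_zero (k := k) I).2 ha]
  let H' : (K ⊗[k] A) ⧸ extIdeal k K I →ₐ[K] K ⊗[k] R := Ideal.Quotient.liftₐ _ H.ofConv hH
  have h1 := semi_apply (mem_coinv.1 hz) G.ofConv H'
  rw [map_one, mul_one, toConv_ofConv,
    show toConv (H'.comp (qmap (extIdeal k K I))) = H from rfl] at h1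
  let φ : WithConv (A →ₐ[k] R) := toConv g * toConv (h.comp (qmap I))
  have h2 : ∀ w : K ⊗[k] A, (G * H).ofConv w =
      Algebra.TensorProduct.map (AlgHom.id K K) φ.ofConv w := by
    have : res (G * H) = res (extPt (K := K) φ.ofConv) := by
      rw [res_mul, res_extPt, res_extPt, res_extPt, comp_convPoint]
    have he : (G * H).ofConv = Algebra.TensorProduct.map (AlgHom.id K K) φ.ofConv := by
      refine Algebra.TensorProduct.ext (Algebra.ext_id _ _ _) ?_
      exact toConv_injective this
    exact fun w => AlgHom.congr_fun he w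
  rw [h2] at h1
  have h3 : ∀ (f : A →ₐ[k] R) (w : K ⊗[k] A), f (TensorProduct.lid k A ((c.coord i).rTensor A w)) =
      TensorProduct.lid k R ((c.coord i).rTensor R
        (Algebra.TensorProduct.map (AlgHom.id K K) f w)) := by
    intro f w
    induction w using TensorProduct.induction_on with
    | zero => simp
    | add v w hv hw => simp only [map_add, hv, hw]
    | tmul x y => simp
  show φ.ofConv _ = g _
  rw [h3, h3, h1]
  rfl

theorem counit_coord {ι : Type u} (c : Module.Basis ι k K) {z : K ⊗[k] A}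
    (hz : CoalgebraStruct.counit (R := K) z = 0) (i : ι) :
    CoalgebraStruct.counit (R := k) (TensorProduct.lid k A ((c.coord i).rTensor A z)) = 0 := by
  have : ∀ w : K ⊗[k] A,
      CoalgebraStruct.counit (R := k) (TensorProduct.lid k A ((c.coord i).rTensor A w)) =
        c.coord i (CoalgebraStruct.counit (R := K) w) := by
    intro w
    induction w using TensorProduct.induction_on with
    | zero => simp
    | add v w hv hw => simp only [map_add, hv, hw]
    | tmul x y =>
      simp only [LinearMap.rTensor_tmul, TensorProduct.lid_tmul, TensorProduct.counit_tmul,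
        map_smul, smul_eq_mul]
      simp [mul_comm]
  rw [this, hz, map_zero]

theorem augSpan_coinv_extIdeal_le :
    SGA3.augIdealSpan K (K ⊗[k] A) (coinv K (extIdeal k K I)) ≤
      extIdeal k K (SGA3.augIdealSpan k A (coinv k I)) := by
  classical
  refine Ideal.span_le.2 ?_
  rintro z ⟨hz, hε⟩
  let c := Module.Free.chooseBasis k K
  let x := TensorProduct.equivFinsuppOfBasisLeft c z
  have hx : ∀ i, x i = TensorProduct.lid k A ((c.coord i).rTensor A z) := fun i =>
    TensorProduct.equivFinsuppOfBasisLeft_apply c z i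
  have hz' : z = x.sum fun i a => c i ⊗ₜ[k] a := by
    rw [← TensorProduct.equivFinsuppOfBasisLeft_symm_apply, LinearEquiv.symm_apply_apply]
  rw [SetLike.mem_coe, hz']
  refine Ideal.sum_mem _ fun i _ => ?_
  have h1 : x i ∈ SGA3.augIdealSpan k A (coinv k I) := by
    refine Ideal.subset_span ⟨?_, ?_⟩
    · rw [hx]; exact coord_mem_coinv I c hz i
    · rw [hx]; exact counit_coord c hε i
  have h2 := (extIdeal k K (SGA3.augIdealSpan k A (coinv k I))).mul_mem_left (c i ⊗ₜ[k] (1 : A))
    (Ideal.mem_map_of_mem (Algebra.TensorProduct.includeRight : A →ₐ[k] K ⊗[k] A) h1)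
  rwa [Algebra.TensorProduct.includeRight_apply, Algebra.TensorProduct.tmul_mul_tmul, mul_one,
    one_mul] at h2

omit [I.IsHopfIdeal k] in
theorem mem_of_one_tmul_mem (J : Ideal A) {a : A} (h : (1 : K) ⊗ₜ[k] a ∈ extIdeal k K J) :
    a ∈ J := by
  let φ : K ⊗[k] A →ₐ[k] K ⊗[k] (A ⧸ J) :=
    Algebra.TensorProduct.map (AlgHom.id k K) (Ideal.Quotient.mkₐ k J)
  have h1 : extIdeal k K J ≤ RingHom.ker φ := Ideal.map_le_iff_le_comap.2 fun b hb => by
    show φ ((1 : K) ⊗ₜ[k] b) = 0
    simp [φ, Ideal.Quotient.eq_zero_iff_mem.2 hb]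
  have h2 : φ ((1 : K) ⊗ₜ[k] a) = 0 := h1 h
  have hinj := Algebra.TensorProduct.includeRight_injective (R := k) (A := K) (B := A ⧸ J)
    (algebraMap k K).injective
  rw [← Ideal.Quotient.eq_zero_iff_mem]
  exact hinj ((show (1 : K) ⊗ₜ[k] Ideal.Quotient.mk J a = 0 from h2).trans (map_zero _).symm)

end Groth.Agent.HopfFF
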