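/-
For a normal subgroup, the inverse of an occurring weight occurs.
-/
import Groth.Agent.HopfFFLib.Normal.Coinvariants
import Groth.Agent.GrpSchLib.HopfReduced

set_option autoImplicit false

universe u v

open TensorProduct WithConv

namespace Groth.Agent.HopfFF

attribute [local instance] pointsGroup

variable {k : Type u} [Field k] {A : Type u} [CommRing A] [HopfAlgebra k A]

/-- A constant point. -/
noncomputable def constPt (R : Type v) [CommRing R] [Algebra k R] (g : WithConv (A →ₐ[k] k)) :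
    WithConv (A →ₐ[k] R) :=
  toConv ((Algebra.ofId k R).comp g.ofConv)

theorem constPt_mul {R : Type v} [CommRing R] [Algebra k R] (g h : WithConv (A →ₐ[k] k)) :
    constPt R (g * h) = constPt R g * constPt R h := comp_convPoint (Algebra.ofId k R) g h

theorem constPt_one {R : Type v} [CommRing R] [Algebra k R] :
    constPt R (1 : WithConv (A →ₐ[k] k)) = 1 := comp_one (Algebra.ofId k R)

theorem constPt_inv {R : Type v} [CommRing R] [Algebra k R] (g : WithConv (A →ₐ[k] k)) :
    constPt R g⁻¹ = (constPt R g)⁻¹ := rfl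

theorem comp_constPt {R : Type v} [CommRing R] [Algebra k R] {R' : Type u} [CommRing R']
    [Algebra k R'] (φ : R →ₐ[k] R') (g : WithConv (A →ₐ[k] k)) :
    toConv (φ.comp (constPt R g).ofConv) = constPt R' g := by
  apply WithConv.ext
  apply AlgHom.ext
  intro a
  exact φ.commutes _

/-- Conjugation by a rational point. -/
noncomputable def conjA (g : WithConv (A →ₐ[k] k)) : A →ₐ[k] A :=
  ((constPt A g)⁻¹ * toConv (AlgHom.id k A) * constPt A g).ofConv

theorem comp_conjA {R : Type u} [CommRing R] [Algebra k R] (Z : WithConv (A →ₐ[k] R))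
    (g : WithConv (A →ₐ[k] k)) :
    toConv (Z.ofConv.comp (conjA g)) = (constPt R g)⁻¹ * Z * constPt R g := by
  rw [conjA, comp_convPoint, comp_convPoint, ofConv_toConv, AlgHom.comp_id, toConv_ofConv,
    ← constPt_inv, ← constPt_inv, comp_constPt, comp_constPt]

theorem counit_conjA (g : WithConv (A →ₐ[k] k)) (a : A) :
    CoalgebraStruct.counit (R := k) (conjA g a) = CoalgebraStruct.counit (R := k) a := by
  have h := comp_conjA (toConv (Bialgebra.counitAlgHom k A)) g
  have h1 : toConv (Bialgebra.counitAlgHom k A) = 1 := by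
    apply WithConv.ext
    apply AlgHom.ext
    intro a
    simp
  rw [h1, mul_one, inv_mul_cancel] at h
  have := congrArg (fun f : WithConv (A →ₐ[k] k) => f.ofConv a) h
  simpa using this

variable {I : Ideal A} [I.IsHopfIdeal k] (hI : SGA3.IsNormalHopfIdeal k A I)

theorem exists_conj_inv (hI : SGA3.IsNormalHopfIdeal k A I) {R : Type u} [CommRing R]
    [Algebra k R] (g : WithConv (A →ₐ[k] R)) (h : (A ⧸ I) →ₐ[k] R) :
    ∃ κ : (A ⧸ I) →ₐ[k] R, g⁻¹ * toConv (h.comp (qmap I)) * g = toConv (κ.comp (qmap I)) := by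
  obtain ⟨κ, hκ⟩ := exists_conj hI g⁻¹ h
  rw [inv_inv] at hκ
  exact ⟨κ, hκ⟩

theorem exists_conjMap (hI : SGA3.IsNormalHopfIdeal k A I) :
    ∃ κ : (A ⧸ I) →ₐ[k] A ⊗[k] (A ⧸ I),
      (toConv (Algebra.TensorProduct.includeLeft : A →ₐ[k] A ⊗[k] (A ⧸ I)))⁻¹ *
          toConv ((Algebra.TensorProduct.includeRight : (A ⧸ I) →ₐ[k] A ⊗[k] (A ⧸ I)).comp
            (qmap I)) *
          toConv (Algebra.TensorProduct.includeLeft : A →ₐ[k] A ⊗[k] (A ⧸ I)) =
        toConv (κ.comp (qmap I)) :=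
  exists_conj_inv hI _ _

/-- The universal conjugate. -/
noncomputable def conjMap : (A ⧸ I) →ₐ[k] A ⊗[k] (A ⧸ I) := (exists_conjMap hI).choose

theorem conjMap_spec {R : Type u} [CommRing R] [Algebra k R] (g : WithConv (A →ₐ[k] R))
    (h : (A ⧸ I) →ₐ[k] R) :
    g⁻¹ * toConv (h.comp (qmap I)) * g =
      toConv (((Algebra.TensorProduct.productMap g.ofConv h).comp (conjMap hI)).comp (qmap I)) := by
  have h1 := congrArg (fun f : WithConv (A →ₐ[k] A ⊗[k] (A ⧸ I)) =>
    toConv ((Algebra.TensorProduct.productMap g.ofConv h).comp f.ofConv))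
    (exists_conjMap hI).choose_spec
  simp only [comp_convPoint] at h1
  have e1 : (Algebra.TensorProduct.productMap g.ofConv h).comp
      (Algebra.TensorProduct.includeLeft : A →ₐ[k] A ⊗[k] (A ⧸ I)) = g.ofConv :=
    AlgHom.ext fun a => by simp
  have e2 : (Algebra.TensorProduct.productMap g.ofConv h).comp
      (Algebra.TensorProduct.includeRight : (A ⧸ I) →ₐ[k] A ⊗[k] (A ⧸ I)) = h :=
    AlgHom.ext fun a => by simp
  have e3 : toConv ((Algebra.TensorProduct.productMap g.ofConv h).comp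
      ((toConv (Algebra.TensorProduct.includeLeft : A →ₐ[k] A ⊗[k] (A ⧸ I)))⁻¹).ofConv) = g⁻¹ := by
    apply WithConv.ext
    apply AlgHom.ext
    intro a
    exact AlgHom.congr_fun e1 (HopfAlgebra.antipodeAlgHom k A a)
  rw [e3, ofConv_toConv, ← AlgHom.comp_assoc, e2, ofConv_toConv, e1, toConv_ofConv] at h1
  exact h1

/-- The conjugate of the subgroup's functions by a rational point. -/
noncomputable def conjQ (g : WithConv (A →ₐ[k] k)) : (A ⧸ I) →ₐ[k] (A ⧸ I) :=
  (Algebra.TensorProduct.productMap (constPt (A ⧸ I) g).ofConv (AlgHom.id k (A ⧸ I))).comp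
    (conjMap hI)

theorem conjQ_spec (g : WithConv (A →ₐ[k] k)) :
    (constPt (A ⧸ I) g)⁻¹ * toConv (qmap (k := k) I) * constPt (A ⧸ I) g =
      toConv ((conjQ hI g).comp (qmap I)) :=
  conjMap_spec hI (constPt (A ⧸ I) g) (AlgHom.id k (A ⧸ I))

omit [I.IsHopfIdeal k] in
theorem qlift_ext {R : Type v} [CommRing R] [Algebra k R] {f g : (A ⧸ I) →ₐ[k] R}
    (h : toConv (f.comp (qmap (k := k) I)) = toConv (g.comp (qmap (k := k) I))) : f = g := by
  apply AlgHom.ext
  intro q
  obtain ⟨a, rfl⟩ := Ideal.Quotient.mk_surjective q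
  exact AlgHom.congr_fun (toConv_injective h) a

theorem conjQ_comp (g h : WithConv (A →ₐ[k] k)) :
    (conjQ hI h).comp (conjQ hI g) = conjQ hI (h * g) := by
  refine qlift_ext ?_
  have h1 := congrArg (fun f : WithConv (A →ₐ[k] A ⧸ I) => toConv ((conjQ hI h).comp f.ofConv))
    (conjQ_spec hI g)
  simp only [comp_convPoint, ofConv_toConv, ← constPt_inv, comp_constPt] at h1
  rw [AlgHom.comp_assoc, ← h1, ← conjQ_spec hI h, ← conjQ_spec hI (h * g), constPt_mul,
    constPt_inv]
  group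

theorem conjQ_one : conjQ hI 1 = AlgHom.id k (A ⧸ I) := by
  refine qlift_ext ?_
  rw [← conjQ_spec, constPt_one, inv_one, one_mul, mul_one, AlgHom.id_comp]

theorem semi_conj {χ : A ⧸ I} {a : A} (ha : Semi (k := k) I χ a) (g : WithConv (A →ₐ[k] k)) :
    Semi (k := k) I (conjQ hI g χ) (conjA g a) := by
  refine semi_of_apply fun R _ _ y h => ?_
  have e1 := congrArg (fun f : WithConv (A →ₐ[k] R) => f.ofConv a)
    (comp_conjA (toConv y * toConv (h.comp (qmap I))) g)
  have e2 := congrArg (fun f : WithConv (A →ₐ[k] R) => f.ofConv a) (comp_conjA (toConv y) g)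
  have e3 : (constPt R g)⁻¹ * toConv (h.comp (qmap I)) * constPt R g =
      toConv ((h.comp (conjQ hI g)).comp (qmap I)) := by
    have := congrArg (fun f : WithConv (A →ₐ[k] A ⧸ I) => toConv (h.comp f.ofConv))
      (conjQ_spec hI g)
    simp only [comp_convPoint, ofConv_toConv, ← constPt_inv, comp_constPt] at this
    rw [AlgHom.comp_assoc, ← this, constPt_inv]
  have e4 : (constPt R g)⁻¹ * (toConv y * toConv (h.comp (qmap I))) * constPt R g =
      ((constPt R g)⁻¹ * toConv y * constPt R g) *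
        toConv ((h.comp (conjQ hI g)).comp (qmap I)) := by
    rw [← e3]
    group
  simp only [ofConv_toConv, AlgHom.comp_apply] at e1 e2
  rw [e1, e4, e2]
  have := semi_apply ha ((constPt R g)⁻¹ * toConv y * constPt R g).ofConv (h.comp (conjQ hI g))
  rw [toConv_ofConv] at this
  exact this

section main

variable [IsAlgClosed k] [Algebra.FiniteType k A]

omit [HopfAlgebra k A] in
theorem isNilpotent_of_forall_point [Algebra k A] [Algebra.FiniteType k A] {x : A}
    (h : ∀ g : A →ₐ[k] k, g x = 0) : IsNilpotent x := by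
  have : IsJacobsonRing A := isJacobsonRing_of_finiteType (A := k)
  rw [← mem_nilradical]
  have hrad : nilradical A = Ideal.jacobson ⊥ := Ideal.radical_eq_jacobson ⊥
  rw [hrad, Ideal.jacobson, Ideal.mem_sInf]
  rintro M ⟨-, hM⟩
  let : Field (A ⧸ M) := Ideal.Quotient.field M
  have : Module.Finite k (A ⧸ M) := finite_of_finite_type_of_isJacobsonRing k (A ⧸ M)
  let e : k ≃ₐ[k] (A ⧸ M) := AlgEquiv.ofBijective (Algebra.ofId k (A ⧸ M))
    (IsAlgClosed.algebraMap_bijective_of_isIntegral)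
  have := h (e.symm.toAlgHom.comp (Ideal.Quotient.mkₐ k M))
  simpa [Ideal.Quotient.eq_zero_iff_mem] using this

/-- An element fixed by the rational conjugations becomes invariant after a `p`-power. -/
theorem exists_pow_invariant {Χ : A ⧸ I} (hfix : ∀ g, conjQ hI g Χ = Χ) :
    ∃ m : ℕ, 0 < m ∧ conjMap hI (Χ ^ m) = (1 : A) ⊗ₜ[k] (Χ ^ m) := by
  classical
  obtain ⟨q, hq'⟩ : ∃ q, ExpChar k q := ⟨ringExpChar k, inferInstance⟩
  haveI : Nontrivial (A ⊗[k] (A ⧸ I)) :=
    (Algebra.TensorProduct.productMap (Bialgebra.counitAlgHom k A)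
      (Bialgebra.counitAlgHom k (A ⧸ I))).toRingHom.domain_nontrivial
  haveI : ExpChar (A ⊗[k] (A ⧸ I)) q :=
    expChar_of_injective_algebraMap (algebraMap k (A ⊗[k] (A ⧸ I))).injective q
  let d := conjMap hI Χ - (1 : A) ⊗ₜ[k] Χ
  let β := Module.Free.chooseBasis k (A ⧸ I)
  let x := TensorProduct.equivFinsuppOfBasisRight β d
  have hd : d = x.sum fun i a => a ⊗ₜ[k] β i := by
    rw [← TensorProduct.equivFinsuppOfBasisRight_symm_apply, LinearEquiv.symm_apply_apply]
  have hx : ∀ i, ∀ g : A →ₐ[k] k, g (x i) = 0 := by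
    intro i g
    let P := Algebra.TensorProduct.productMap (constPt (A ⧸ I) (toConv g)).ofConv
      (AlgHom.id k (A ⧸ I))
    have key : ∀ z : A ⊗[k] (A ⧸ I),
        g (TensorProduct.rid k A ((β.coord i).lTensor A z)) = β.coord i (P z) := by
      intro z
      induction z using TensorProduct.induction_on with
      | zero => simp
      | add z w hz hw => simp only [map_add, hz, hw]
      | tmul a q =>
        simp only [P, LinearMap.lTensor_tmul, TensorProduct.rid_tmul, map_smul, smul_eq_mul,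
          Algebra.TensorProduct.productMap_apply_tmul, constPt, ofConv_toConv, AlgHom.comp_apply,
          Algebra.ofId_apply, AlgHom.id_apply]
        rw [← Algebra.smul_def, map_smul, smul_eq_mul, mul_comm]
    rw [show x i = TensorProduct.rid k A ((β.coord i).lTensor A d) from
      TensorProduct.equivFinsuppOfBasisRight_apply β d i, key]
    have : P d = 0 := by
      show P (conjMap hI Χ - _) = 0
      rw [map_sub, show P (conjMap hI Χ) = Χ from hfix (toConv g)]
      simp [P]
    rw [this, map_zero]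
  obtain ⟨r, hr⟩ : ∃ r : ℕ, d ^ q ^ r = 0 := by
    rcases hq' with _ | hq
    · haveI : IsReduced A := Groth.Agent.GrpSchLib.HopfRed.isReduced_of_finiteType (k := k)
      refine ⟨0, ?_⟩
      have : d = 0 := by
        rw [hd]
        refine Finset.sum_eq_zero fun i _ => ?_
        show x i ⊗ₜ[k] β i = 0
        rw [(isNilpotent_of_forall_point (hx i)).eq_zero, zero_tmul]
      rw [this]
      simp
    · have hn : IsNilpotent d := by
        rw [← mem_nilradical, hd]
        refine Ideal.sum_mem _ fun i _ => ?_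
        rw [mem_nilradical]
        have h1 : IsNilpotent ((x i) ⊗ₜ[k] (1 : A ⧸ I)) :=
          (isNilpotent_of_forall_point (hx i)).map
            (Algebra.TensorProduct.includeLeft : A →ₐ[k] A ⊗[k] (A ⧸ I))
        have h2 := Commute.isNilpotent_mul_right (Commute.all _ ((1 : A) ⊗ₜ[k] β i)) h1
        simpa using h2
      obtain ⟨n, hn⟩ := hn
      exact ⟨n, pow_eq_zero_of_le (Nat.lt_pow_self hq.one_lt).le hn⟩
  refine ⟨q ^ r, pow_pos (expChar_pos k q) r, ?_⟩
  have h := sub_pow_expChar_pow (R := A ⊗[k] (A ⧸ I)) (conjMap hI Χ) ((1 : A) ⊗ₜ[k] Χ) (p := q) r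
  rw [show (conjMap hI Χ - (1 : A) ⊗ₜ[k] Χ) ^ q ^ r = 0 from hr, eq_comm, sub_eq_zero,
    ← map_pow, Algebra.TensorProduct.tmul_pow, one_pow] at h
  exact h

theorem semi_antipode {Χ : A ⧸ I} {P : A} (hP : Semi (k := k) I Χ P)
    (hinv : conjMap hI Χ = (1 : A) ⊗ₜ[k] Χ) :
    Semi (k := k) I (HopfAlgebraStruct.antipode (R := k) Χ)
      (HopfAlgebraStruct.antipode (R := k) P) := by
  refine semi_of_apply fun R _ _ y h => ?_
  show ((toConv y * toConv (h.comp (qmap I)))⁻¹).ofConv P = ((toConv y)⁻¹).ofConv P * _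
  rw [mul_inv_rev, inv_comp_qmap]
  have e := conjMap_spec hI (toConv y)⁻¹ (h.comp (HopfAlgebra.antipodeAlgHom k (A ⧸ I)))
  rw [inv_inv] at e
  have e' : toConv ((h.comp (HopfAlgebra.antipodeAlgHom k (A ⧸ I))).comp (qmap I)) *
        (toConv y)⁻¹ =
      (toConv y)⁻¹ * toConv (((Algebra.TensorProduct.productMap ((toConv y)⁻¹).ofConv
        (h.comp (HopfAlgebra.antipodeAlgHom k (A ⧸ I)))).comp (conjMap hI)).comp (qmap I)) := by
    rw [← e]
    group
  rw [e']
  have := semi_apply hP ((toConv y)⁻¹).ofConv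
    ((Algebra.TensorProduct.productMap ((toConv y)⁻¹).ofConv
      (h.comp (HopfAlgebra.antipodeAlgHom k (A ⧸ I)))).comp (conjMap hI))
  rw [toConv_ofConv] at this
  rw [this, AlgHom.comp_apply, hinv, Algebra.TensorProduct.productMap_apply_tmul, map_one, one_mul]
  rfl

include hI in
/-- The inverse of an occurring weight occurs. -/
theorem exists_semi_inv {χ : A ⧸ I} {a : A} (ha : Semi (k := k) I χ a)
    (hε : CoalgebraStruct.counit (R := k) a = 1) :
    ∃ (ψ : A ⧸ I) (b : A), Semi (k := k) I ψ b ∧ CoalgebraStruct.counit (R := k) b = 1 ∧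
      χ * ψ = 1 := by
  classical
  obtain ⟨S, hS⟩ := TensorProduct.exists_finset (conjMap hI χ)
  let D : Submodule k (A ⧸ I) := Submodule.span k (Prod.snd '' (S : Set (A × (A ⧸ I))))
  haveI : Module.Finite k D := Module.Finite.span_of_finite k (S.finite_toSet.image _)
  let Oset : Set (A ⧸ I) := Set.range fun g : WithConv (A →ₐ[k] k) => conjQ hI g χ
  have hOD : Oset ⊆ D := by
    rintro _ ⟨g, rfl⟩
    show Algebra.TensorProduct.productMap (constPt (A ⧸ I) g).ofConv (AlgHom.id k (A ⧸ I))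
      (conjMap hI χ) ∈ D
    rw [hS, map_sum]
    refine Submodule.sum_mem _ fun p hp => ?_
    rw [Algebra.TensorProduct.productMap_apply_tmul]
    simp only [constPt, ofConv_toConv, AlgHom.comp_apply, Algebra.ofId_apply, AlgHom.id_apply,
      ← Algebra.smul_def]
    exact Submodule.smul_mem _ _ (Submodule.subset_span ⟨p, hp, rfl⟩)
  have hOG : Oset ⊆ {q : A ⧸ I | IsGroupLikeElem k q} := by
    rintro _ ⟨g, rfl⟩
    exact isGroupLike_of_semi (semi_conj hI ha g) (by rw [counit_conjA, hε])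
  have hfin : Oset.Finite := by
    have hli := (linearIndepOn_isGroupLikeElem (R := k) (A := A ⧸ I)).mono hOG
    have hli' : LinearIndependent k (fun x : Oset => (⟨x.1, hOD x.2⟩ : D)) :=
      LinearIndependent.of_comp D.subtype hli
    exact Set.finite_coe_iff.1 hli'.finite
  let O : Finset (A ⧸ I) := hfin.toFinset
  have hmemO : ∀ {ψ}, ψ ∈ O ↔ ∃ g, conjQ hI g χ = ψ := fun {ψ} => hfin.mem_toFinset
  have hχO : χ ∈ O := hmemO.2 ⟨1, by rw [conjQ_one]; rfl⟩
  choose! gψ hgψ using fun ψ (h : ψ ∈ O) => hmemO.1 h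
  let aψ : A ⧸ I → A := fun ψ => conjA (gψ ψ) a
  have haψ : ∀ ψ ∈ O, Semi (k := k) I ψ (aψ ψ) := fun ψ h => by
    have := semi_conj hI ha (gψ ψ)
    rwa [hgψ ψ h] at this
  have hεψ : ∀ ψ, CoalgebraStruct.counit (R := k) (aψ ψ) = 1 := fun ψ => by
    rw [counit_conjA, hε]
  let Χ := ∏ ψ ∈ O, ψ
  let P := ∏ ψ ∈ O, aψ ψ
  have hPsemi : Semi (k := k) I Χ P := semi_prod O (fun ψ => ψ) aψ haψ
  have hεprod : ∀ s : Finset (A ⧸ I), CoalgebraStruct.counit (R := k) (∏ ψ ∈ s, aψ ψ) = 1 := by
    intro s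
    rw [← Bialgebra.counitAlgHom_apply (R := k), map_prod]
    exact Finset.prod_eq_one fun ψ _ => hεψ ψ
  have hfix : ∀ g, conjQ hI g Χ = Χ := by
    intro g
    rw [map_prod]
    have hinj : Function.Injective (conjQ hI g) := by
      intro x y hxy
      have := congrArg (conjQ hI g⁻¹) hxy
      rwa [← AlgHom.comp_apply, ← AlgHom.comp_apply, conjQ_comp, inv_mul_cancel, conjQ_one] at this
    have himg : O.image (conjQ hI g) = O := by
      refine Finset.eq_of_subset_of_card_le ?_ (Finset.card_image_of_injective O hinj).ge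
      intro ψ hψ
      obtain ⟨φ, hφ, rfl⟩ := Finset.mem_image.1 hψ
      obtain ⟨g', rfl⟩ := hmemO.1 hφ
      exact hmemO.2 ⟨g * g', by rw [← conjQ_comp]; rfl⟩
    calc ∏ ψ ∈ O, conjQ hI g ψ = ∏ ψ ∈ O.image (conjQ hI g), ψ :=
          (Finset.prod_image (f := fun ψ => ψ) hinj.injOn).symm
      _ = Χ := by rw [himg]
  obtain ⟨m, hm, hinv⟩ := exists_pow_invariant hI hfix
  have hPm := semi_pow hPsemi m
  have hεPm : CoalgebraStruct.counit (R := k) (P ^ m) = 1 := by
    rw [Bialgebra.counit_pow, hεprod O, one_pow]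
  refine ⟨HopfAlgebraStruct.antipode (R := k) (Χ ^ m) * χ ^ (m - 1) *
      (∏ ψ ∈ O.erase χ, ψ) ^ m,
    HopfAlgebraStruct.antipode (R := k) (P ^ m) * a ^ (m - 1) *
      (∏ ψ ∈ O.erase χ, aψ ψ) ^ m,
    semi_mul (semi_mul (semi_antipode hI hPm hinv) (semi_pow ha _))
      (semi_pow (semi_prod _ (fun ψ => ψ) aψ fun ψ h => haψ ψ (Finset.mem_of_mem_erase h)) m),
    ?_, ?_⟩
  · rw [Bialgebra.counit_mul, Bialgebra.counit_mul, HopfAlgebra.counit_antipode, hεPm,
      Bialgebra.counit_pow, Bialgebra.counit_pow, hε, hεprod, one_pow, one_pow, one_mul, one_mul]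
  · have hΧ : Χ = χ * ∏ ψ ∈ O.erase χ, ψ := (Finset.mul_prod_erase O (fun ψ => ψ) hχO).symm
    have hgl := (isGroupLike_of_semi hPm hεPm).antipode_mul_cancel
    calc χ * (HopfAlgebraStruct.antipode (R := k) (Χ ^ m) * χ ^ (m - 1) *
          (∏ ψ ∈ O.erase χ, ψ) ^ m)
        = HopfAlgebraStruct.antipode (R := k) (Χ ^ m) * (χ ^ (m - 1 + 1) *
          (∏ ψ ∈ O.erase χ, ψ) ^ m) := by ring
      _ = HopfAlgebraStruct.antipode (R := k) (Χ ^ m) * Χ ^ m := by
          rw [Nat.sub_add_cancel hm, ← mul_pow, ← hΧ]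
      _ = 1 := hgl

end main

end Groth.Agent.HopfFF
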