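/-
Over an algebraically closed field, a normal Hopf ideal of a finitely generated Hopf algebra is
generated by the augmentation ideal of its coinvariants.
-/
import Groth.Agent.HopfFFLib.Normal.Weights

set_option autoImplicit false

universe u

open TensorProduct WithConv

namespace Groth.Agent.HopfFF

attribute [local instance] pointsGroup

variable {k : Type u} [Field k] {A : Type u} [CommRing A] [HopfAlgebra k A]

/-- The matrix of coefficients of a subcomodule of `A` with a chosen basis. -/
theorem exists_coeffMatrix {ι : Type} [Fintype ι] [DecidableEq ι] {W : Submodule k A}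
    (b : Module.Basis ι k W)
    (hW : ∀ w ∈ W, CoalgebraStruct.comul (R := k) w ∈
      LinearMap.range (LinearMap.rTensor A W.subtype)) :
    ∃ t : Matrix ι ι A,
      (∀ j, CoalgebraStruct.comul (R := k) (b j : A) = ∑ i, (b i : A) ⊗ₜ[k] t i j) ∧
      (∀ l j, CoalgebraStruct.comul (R := k) (t l j) = ∑ i, t l i ⊗ₜ[k] t i j) ∧
      (∀ l j, CoalgebraStruct.counit (R := k) (t l j) = if l = j then 1 else 0) ∧
      ∀ j, (b j : A) = ∑ i, CoalgebraStruct.counit (R := k) (b i : A) • t i j := by
  choose z hz using fun j => hW (b j : A) (b j).2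
  let t : Matrix ι ι A := fun i j => TensorProduct.equivFinsuppOfBasisLeft b (z j) i
  have hΔ : ∀ j, CoalgebraStruct.comul (R := k) (b j : A) = ∑ i, (b i : A) ⊗ₜ[k] t i j := by
    intro j
    rw [← hz j]
    conv_lhs => rw [← (TensorProduct.equivFinsuppOfBasisLeft b).symm_apply_apply (z j)]
    rw [TensorProduct.equivFinsuppOfBasisLeft_symm_apply, Finsupp.sum_fintype _ _ (by simp),
      map_sum]
    rfl
  have hφ : ∀ l, ∃ φ : A →ₗ[k] k, ∀ i, φ (b i : A) = if i = l then 1 else 0 := by
    intro l
    obtain ⟨φ, hφ⟩ := LinearMap.exists_extend (b.coord l)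
    refine ⟨φ, fun i => ?_⟩
    have h2 : φ (W.subtype (b i)) = b.coord l (b i) := LinearMap.congr_fun hφ (b i)
    rw [Module.Basis.coord_apply, b.repr_self, Finsupp.single_apply] at h2
    exact h2
  choose φ hφ using hφ
  refine ⟨t, hΔ, fun l j => ?_, fun l j => ?_, fun j => ?_⟩
  · let P : A ⊗[k] (A ⊗[k] A) →ₗ[k] A ⊗[k] A :=
      (TensorProduct.lid k _).toLinearMap ∘ₗ (φ l).rTensor _
    have h := congrArg P (Coalgebra.coassoc_apply (R := k) (b j : A))
    rw [hΔ j] at h
    simp only [map_sum, LinearMap.rTensor_tmul, LinearMap.lTensor_tmul, hΔ, sum_tmul,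
      TensorProduct.assoc_tmul] at h
    simp only [P, LinearMap.comp_apply, LinearMap.rTensor_tmul, LinearEquiv.coe_coe,
      TensorProduct.lid_tmul, hφ, ite_smul, one_smul, zero_smul, Finset.sum_ite_eq',
      Finset.mem_univ, if_true] at h
    exact h.symm
  · have h := congrArg (fun y => φ l (TensorProduct.rid k A y))
      (Coalgebra.lTensor_counit_comul (R := k) (b j : A))
    rw [hΔ j] at h
    simp only [map_sum, LinearMap.lTensor_tmul, TensorProduct.rid_tmul, map_smul, hφ, smul_eq_mul,
      mul_ite, mul_one, mul_zero, Finset.sum_ite_eq', Finset.mem_univ, if_true, one_smul] at h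
    rw [h]
    exact if_congr ⟨Eq.symm, Eq.symm⟩ rfl rfl
  · have h := congrArg (TensorProduct.lid k A)
      (Coalgebra.rTensor_counit_comul (R := k) (b j : A))
    rw [hΔ j] at h
    simp only [map_sum, LinearMap.rTensor_tmul, TensorProduct.lid_tmul, one_smul] at h
    exact h.symm

/-- Evaluation of a coefficient at a product of points. -/
theorem convMul_coeff {R : Type u} [CommRing R] [Algebra k R] {ι : Type} [Fintype ι]
    {t : Matrix ι ι A}
    (ht : ∀ l j, CoalgebraStruct.comul (R := k) (t l j) = ∑ i, t l i ⊗ₜ[k] t i j)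
    (f g : A →ₐ[k] R) :
    t.map (toConv f * toConv g).ofConv = t.map f * t.map g := by
  ext l j
  show (toConv f * toConv g) (t l j) = _
  rw [AlgHom.convMul_apply, ht, map_sum, Matrix.mul_apply]
  simp

theorem exists_dual_of_disjoint {M V : Type u} [AddCommGroup M] [Module k M] [AddCommGroup V]
    [Module k V] (C : Submodule k M) (γ : M →ₗ[k] V) (hγ : ∀ c ∈ C, γ c = 0 → c = 0)
    {ι : Type} [DecidableEq ι] (b : Module.Basis ι k C) (l : ι) :
    ∃ ψ : V →ₗ[k] k, ∀ i, ψ (γ (b i : M)) = if i = l then 1 else 0 := by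
  have h : LinearMap.ker (γ ∘ₗ C.subtype) = ⊥ := by
    rw [eq_bot_iff]
    exact fun c hc => (Submodule.mem_bot k).2 (Subtype.ext (hγ _ c.2 hc))
  obtain ⟨P, hP⟩ := (γ ∘ₗ C.subtype).exists_leftInverse_of_injective h
  refine ⟨b.coord l ∘ₗ P, fun i => ?_⟩
  have h2 : P (γ (b i : M)) = b i := LinearMap.congr_fun hP _
  rw [LinearMap.comp_apply, h2, Module.Basis.coord_apply, Module.Basis.repr_self,
    Finsupp.single_apply]

variable {I : Ideal A} [I.IsHopfIdeal k]

set_option backward.isDefEq.respectTransparency false in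
theorem mem_augSpan_coinv_of_mem_subcomod [IsAlgClosed k] [Algebra.FiniteType k A]
    (hI : SGA3.IsNormalHopfIdeal k A I) (W : Submodule k A) [Module.Finite k W]
    (hsub : ∀ w ∈ W, CoalgebraStruct.comul (R := k) w ∈
      LinearMap.range (LinearMap.rTensor A W.subtype))
    {a : A} (haW : a ∈ W) (ha : a ∈ I) : a ∈ SGA3.augIdealSpan k A (coinv k I) := by
  classical
  let N : Submodule k W := (I.restrictScalars k).comap W.subtype
  obtain ⟨C, hC⟩ := N.exists_isCompl
  haveI : Module.Free k N := Module.Free.of_divisionRing k N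
  haveI : Module.Free k C := Module.Free.of_divisionRing k C
  let bb := ((Module.finBasis k N).prod (Module.finBasis k C)).map
    (N.prodEquivOfIsCompl C hC)
  let π := qmap (k := k) I
  have hl : ∀ i, π (bb (Sum.inl i) : A) = 0 := by
    intro i
    rw [qmap_eq_zero]
    have h1 : bb (Sum.inl i) = (Module.finBasis k N i : W) := by simp [bb]
    rw [h1]
    exact (Module.finBasis k N i).2
  -- functionals on `A ⧸ I` dual to the classes of the second block
  have hψ : ∀ l, ∃ ψ : (A ⧸ I) →ₗ[k] k,
      ∀ i, ψ (π (bb (Sum.inr i) : A)) = if i = l then 1 else 0 := by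
    intro l
    have h1 : ∀ i, bb (Sum.inr i) = (Module.finBasis k C i : W) := fun i => by simp [bb]
    simp only [h1]
    refine exists_dual_of_disjoint C (π.toLinearMap ∘ₗ W.subtype) (fun c hc hc0 => ?_) _ l
    have h2 : c ∈ N ⊓ C := ⟨(qmap_eq_zero (k := k) I).1 hc0, hc⟩
    rwa [hC.inf_eq_bot, Submodule.mem_bot] at h2
  obtain ⟨t, hΔ, htt, hεt, hbt⟩ := exists_coeffMatrix bb hsub
  have hπt : ∀ l j, π (t (Sum.inr l) (Sum.inl j)) = 0 := by
    intro l j
    obtain ⟨ψ, hψ⟩ := hψ l
    have h0 : Algebra.TensorProduct.map π π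
        (CoalgebraStruct.comul (R := k) (bb (Sum.inl j) : A)) = 0 := by
      have h := Bialgebra.Quotient.comul_mk (R := k) I (bb (Sum.inl j) : A)
      rw [show Ideal.Quotient.mk I (bb (Sum.inl j) : A) = π (bb (Sum.inl j) : A) from rfl, hl,
        map_zero] at h
      exact h.symm
    rw [hΔ, map_sum, Fintype.sum_sum_type] at h0
    simp only [Algebra.TensorProduct.map_tmul, hl, zero_tmul, Finset.sum_const_zero, zero_add]
      at h0
    have h1 := congrArg (fun y => TensorProduct.lid k (A ⧸ I) (ψ.rTensor _ y)) h0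
    simpa [hψ] using h1
  let P : Matrix (Fin (Module.finrank k N)) (Fin (Module.finrank k N)) A :=
    t.submatrix Sum.inl Sum.inl
  let Q : Matrix (Fin (Module.finrank k C)) (Fin (Module.finrank k N)) A :=
    t.submatrix Sum.inr Sum.inl
  let U := Q * P.adjugate
  have hεP : P.map (Bialgebra.counitAlgHom k A) = 1 := by
    ext i j
    simp [P, hεt, Matrix.one_apply]
  have hεQ : Q.map (Bialgebra.counitAlgHom k A) = 0 := by
    ext i j
    simp [Q, hεt]
  -- the effect of a translation by the subgroup on the two blocks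
  have key : ∀ (R : Type u) [CommRing R] [Algebra k R] (g : A →ₐ[k] R) (h : (A ⧸ I) →ₐ[k] R),
      P.map (toConv g * toConv (h.comp π)).ofConv = P.map g * P.map (h.comp π) ∧
      Q.map (toConv g * toConv (h.comp π)).ofConv = Q.map g * P.map (h.comp π) := by
    intro R _ _ g h
    have h1 := convMul_coeff htt g (h.comp π)
    have h0 : ∀ l j, h (π (t (Sum.inr l) (Sum.inl j))) = 0 := fun l j => by rw [hπt, map_zero]
    constructor <;>
    · ext i j
      refine (congrFun (congrFun h1 _) _).trans ?_
      rw [Matrix.mul_apply, Matrix.mul_apply, Fintype.sum_sum_type]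
      simp [P, Q, h0]
  have hdetmap : ∀ (R : Type u) [CommRing R] [Algebra k R] (f : A →ₐ[k] R),
      f P.det = (P.map f).det := fun R _ _ f => AlgHom.map_det f P
  have hc : Semi (k := k) I (π P.det) P.det := by
    refine semi_of_apply fun R _ _ g h => ?_
    show _ = g P.det * (h.comp π) P.det
    rw [hdetmap R (toConv g * toConv (h.comp (qmap I))).ofConv, (key R g h).1, Matrix.det_mul,
      ← hdetmap, ← hdetmap]
  have hεc : CoalgebraStruct.counit (R := k) P.det = 1 := by
    show Bialgebra.counitAlgHom k A P.det = 1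
    rw [hdetmap, hεP, Matrix.det_one]
  have hU : ∀ i j, Semi (k := k) I (π P.det) (U i j) := by
    intro i j
    refine semi_of_apply fun R _ _ g h => ?_
    show _ = g (U i j) * (h.comp π) P.det
    have hUm : ∀ f : A →ₐ[k] R, U.map f = Q.map f * (P.map f).adjugate := fun f => by
      rw [Matrix.map_mul, ← AlgHom.mapMatrix_apply, ← AlgHom.mapMatrix_apply,
        AlgHom.map_adjugate]
    have : U.map (toConv g * toConv (h.comp (qmap I))).ofConv = (P.map (h.comp π)).det • U.map g := by
      rw [hUm, (key R g h).1, (key R g h).2, Matrix.adjugate_mul_distrib, Matrix.mul_assoc,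
        ← Matrix.mul_assoc (P.map (h.comp π)), Matrix.mul_adjugate, Matrix.smul_mul,
        Matrix.one_mul, Matrix.mul_smul, hUm]
    refine (congrFun (congrFun this i) j).trans ?_
    rw [Matrix.smul_apply, smul_eq_mul, mul_comm, ← hdetmap]
    rfl

  have hεU : ∀ i j, CoalgebraStruct.counit (R := k) (U i j) = 0 := by
    intro i j
    have : U.map (Bialgebra.counitAlgHom k A) = 0 := by
      rw [Matrix.map_mul, hεQ, Matrix.zero_mul]
    exact congrFun (congrFun this i) j
  obtain ⟨ψ, b, hb, hεb, hχψ⟩ := exists_semi_inv hI hc hεc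
  let J := SGA3.augIdealSpan k A (coinv k I)
  have hmem : ∀ x, Semi (k := k) I (π P.det) x → CoalgebraStruct.counit (R := k) x = 0 →
      x * b ∈ J := by
    intro x hx hεx
    refine Ideal.subset_span ⟨?_, by rw [Bialgebra.counit_mul, hεx, zero_mul]⟩
    rw [mem_coinv, ← hχψ]
    exact semi_mul hx hb
  have hcb : P.det * b - 1 ∈ J := by
    refine Ideal.subset_span ⟨sub_mem ?_ (one_mem _), by simp [hεc, hεb]⟩
    rw [mem_coinv, ← hχψ]
    exact semi_mul hc hb
  have hQ : ∀ i j, Q i j ∈ J := by
    intro i j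
    have h1 : P.det • Q = U * P := by
      rw [Matrix.mul_assoc, Matrix.adjugate_mul, Matrix.mul_smul, Matrix.mul_one]
    have h2 : P.det * Q i j = ∑ l, U i l * P l j := congrFun (congrFun h1 i) j
    have h3 : Q i j = (∑ l, U i l * b * P l j) - (P.det * b - 1) * Q i j := by
      rw [sub_mul, one_mul, show P.det * b * Q i j = b * (P.det * Q i j) by ring, h2,
        Finset.mul_sum]
      rw [show (∑ l, U i l * b * P l j) = ∑ l, b * (U i l * P l j) from
        Finset.sum_congr rfl fun l _ => by ring]
      ring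
    rw [h3]
    exact sub_mem (Ideal.sum_mem _ fun l _ => J.mul_mem_right _ (hmem _ (hU i l) (hεU i l)))
      (J.mul_mem_right _ hcb)
  have hεl : ∀ i, CoalgebraStruct.counit (R := k) (bb (Sum.inl i) : A) = 0 := fun i =>
    Submodule.IsCoideal.counit_eq_zero (I := I.restrictScalars k)
      ((qmap_eq_zero (k := k) I).1 (hl i))
  have hbJ : ∀ j, (bb (Sum.inl j) : A) ∈ J := by
    intro j
    rw [hbt, Fintype.sum_sum_type]
    refine add_mem (Ideal.sum_mem _ fun i _ => ?_) (Ideal.sum_mem _ fun i _ => ?_)
    · rw [hεl, zero_smul]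
      exact zero_mem _
    · rw [Algebra.smul_def]
      exact J.mul_mem_left _ (hQ i j)
  have hNJ : N ≤ (J.restrictScalars k).comap W.subtype := by
    intro x hx
    have : (⟨x, hx⟩ : N) ∈ Submodule.span k (Set.range (Module.finBasis k N)) := by
      rw [(Module.finBasis k N).span_eq]
      exact Submodule.mem_top
    have h' := Submodule.mem_map_of_mem (f := N.subtype) this
    rw [Submodule.map_span] at h'
    refine Submodule.span_le.2 ?_ h'
    rintro _ ⟨_, ⟨i, rfl⟩, rfl⟩
    have := hbJ i
    have h1 : bb (Sum.inl i) = (Module.finBasis k N i : W) := by simp [bb]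
    rw [h1] at this
    exact this
  exact hNJ (show (⟨a, haW⟩ : W) ∈ N from ha)

open scoped ComodLib in
theorem le_augSpan_coinv_of_isAlgClosed [IsAlgClosed k] [Algebra.FiniteType k A]
    (hI : SGA3.IsNormalHopfIdeal k A I) : I ≤ SGA3.augIdealSpan k A (coinv k I) := by
  intro a ha
  letI := selfComod (k := k) (A := A)
  let W : Submodule k A :=
    (Submodule.span (ComodLib.Dual' k A) ({a} : Set A)).restrictScalars k
  have hfin : Module.Finite k W := ComodLib.finite_span_singleton A a
  have hsub : HopfRep.IsSubcomod (k := k) (A := A) W := ComodLib.isSubcomod_restrictScalars _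
  have haW : a ∈ W := Submodule.mem_span_singleton_self (R := ComodLib.Dual' k A) a
  exact mem_augSpan_coinv_of_mem_subcomod hI W hsub haW ha

end Groth.Agent.HopfFF
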