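/-
A normal Hopf ideal is generated by the augmentation ideal of its coinvariants.
-/
import Groth.Agent.HopfFFLib.Normal.Frame
import Groth.Agent.HopfFFLib.Normal.BaseChange
import Mathlib.RingTheory.TensorProduct.Finite

set_option autoImplicit false

universe u

open TensorProduct WithConv

namespace Groth.Agent.HopfFF

attribute [local instance] pointsGroup

variable {k : Type u} [Field k] {A : Type u} [CommRing A] [HopfAlgebra k A]

/-- The case of finite type. -/
theorem le_augSpan_coinv_of_finiteType [Algebra.FiniteType k A] (I : Ideal A) [I.IsHopfIdeal k]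
    (hI : SGA3.IsNormalHopfIdeal k A I) : I ≤ SGA3.augIdealSpan k A (coinv k I) := by
  intro a ha
  let K := AlgebraicClosure k
  refine mem_of_one_tmul_mem (k := k) (K := K) _ ?_
  exact augSpan_coinv_extIdeal_le I
    (le_augSpan_coinv_of_isAlgClosed (isNormal_extIdeal I hI)
      (Ideal.mem_map_of_mem (Algebra.TensorProduct.includeRight : A →ₐ[k] K ⊗[k] A) ha))

section comap

variable {A' : Type u} [CommRing A'] [HopfAlgebra k A'] (f : A' →ₐc[k] A) (I : Ideal A)
  [I.IsHopfIdeal k]

/-- The induced map of quotients. -/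
noncomputable def comapQ : A' ⧸ I.comap (f : A' →ₐ[k] A) →ₐ[k] A ⧸ I :=
  Ideal.quotientMapₐ I (f : A' →ₐ[k] A) le_rfl

theorem comapQ_injective : Function.Injective (comapQ f I) :=
  Ideal.quotientMap_injective

instance isHopfIdeal_comap : (I.comap (f : A' →ₐ[k] A)).IsHopfIdeal k := by
  refine { counit_eq_zero := ?_, map_mkQ_comul_eq_zero := ?_, antipode_mem := ?_ }
  · intro x hx
    rw [← CoalgHomClass.counit_comp_apply f x]
    exact Submodule.IsCoideal.counit_eq_zero (I := I.restrictScalars k) hx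
  · intro x hx
    let j := (comapQ f I).toLinearMap
    have hinj : Function.Injective (TensorProduct.map j j) := by
      rw [← LinearMap.lTensor_comp_rTensor, LinearMap.coe_comp]
      exact (Module.Flat.lTensor_preserves_injective_linearMap j (comapQ_injective f I)).comp
        (Module.Flat.rTensor_preserves_injective_linearMap j (comapQ_injective f I))
    let π := (Ideal.Quotient.mkₐ k (I.comap (f : A' →ₐ[k] A))).toLinearMap
    have h0 : TensorProduct.map π π (CoalgebraStruct.comul (R := k) x) = 0 := by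
      apply hinj
      rw [map_zero, ← LinearMap.comp_apply, ← TensorProduct.map_comp,
        show j ∘ₗ π = (Ideal.Quotient.mkₐ k I).toLinearMap ∘ₗ (f : A' →ₐ[k] A).toLinearMap from
          rfl, TensorProduct.map_comp, LinearMap.comp_apply]
      erw [CoalgHomClass.map_comp_comul_apply f x]
      exact Submodule.IsCoideal.map_mkQ_comul_eq_zero (I := I.restrictScalars k) hx
    exact h0
  · intro x hx
    show f (HopfAlgebraStruct.antipode (R := k) x) ∈ I
    rw [map_antipode]
    exact Ideal.IsHopfIdeal.antipode_mem (R := k) hx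

omit [I.IsHopfIdeal k] in
theorem conj_comp {R : Type u} [CommRing R] [Algebra k R] (g h : A →ₐ[k] R) :
    (Dyn.conv3 k A g h (g.comp (HopfAlgebra.antipodeAlgHom k A))).comp (f : A' →ₐ[k] A) =
      Dyn.conv3 k A' (g.comp (f : A' →ₐ[k] A)) (h.comp (f : A' →ₐ[k] A))
        ((g.comp (f : A' →ₐ[k] A)).comp (HopfAlgebra.antipodeAlgHom k A')) := by
  rw [conv3_eq, conv3_eq, AlgHom.convMul_comp_bialgHom_distrib]
  have h1 := AlgHom.convMul_comp_bialgHom_distrib (toConv g) (toConv h) f
  rw [ofConv_toConv, ofConv_toConv] at h1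
  have h2 : (g.comp (f : A' →ₐ[k] A)).comp (HopfAlgebra.antipodeAlgHom k A') =
      (g.comp (HopfAlgebra.antipodeAlgHom k A)).comp (f : A' →ₐ[k] A) :=
    AlgHom.ext fun x => congrArg g (map_antipode f x)
  rw [h2]
  exact congrArg WithConv.ofConv (by rw [h1, toConv_ofConv, ofConv_toConv])

omit [HopfAlgebra k A] [I.IsHopfIdeal k] in
theorem comp_conj {A : Type u} [CommRing A] [HopfAlgebra k A] {R R' : Type u} [CommRing R]
    [Algebra k R] [CommRing R'] [Algebra k R'] (φ : R →ₐ[k] R') (g h : A →ₐ[k] R) :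
    φ.comp (Dyn.conv3 k A g h (g.comp (HopfAlgebra.antipodeAlgHom k A))) =
      Dyn.conv3 k A (φ.comp g) (φ.comp h) ((φ.comp g).comp (HopfAlgebra.antipodeAlgHom k A)) := by
  rw [conv3_eq, conv3_eq, AlgHom.comp_assoc]
  refine congrArg WithConv.ofConv ((comp_convPoint φ (toConv g * toConv h)
    (toConv (g.comp (HopfAlgebra.antipodeAlgHom k A)))).trans ?_)
  rw [comp_convPoint]

/-- The universal conjugate of a point of the smaller subgroup. -/
theorem conv3_univ_eq_zero (hf : Function.Injective f) (hI : SGA3.IsNormalHopfIdeal k A I)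
    {R : Type u} [CommRing R] [Algebra k R] (j : R →ₐ[k] A ⊗[k] (A ⧸ I))
    (hj : Function.Injective j) (iL iR : A' →ₐ[k] R)
    (eL : j.comp iL = (Algebra.TensorProduct.includeLeft : A →ₐ[k] A ⊗[k] (A ⧸ I)).comp
      (f : A' →ₐ[k] A))
    (eR : j.comp iR = ((Algebra.TensorProduct.includeRight : (A ⧸ I) →ₐ[k] A ⊗[k] (A ⧸ I)).comp
      (qmap I)).comp (f : A' →ₐ[k] A))
    {a : A'} (ha : f a ∈ I) :
    Dyn.conv3 k A' iL iR (iL.comp (HopfAlgebra.antipodeAlgHom k A')) a = 0 := by
  apply hj
  rw [map_zero, ← AlgHom.comp_apply, comp_conj, eL, eR, ← conj_comp]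
  exact hI _ Algebra.TensorProduct.includeLeft
    ((Algebra.TensorProduct.includeRight : (A ⧸ I) →ₐ[k] A ⊗[k] (A ⧸ I)).comp (qmap I))
    (fun b hb => by rw [AlgHom.comp_apply, (qmap_eq_zero (k := k) I).2 hb, map_zero]) (f a) ha

theorem isNormal_comap (hf : Function.Injective f) (hI : SGA3.IsNormalHopfIdeal k A I) :
    SGA3.IsNormalHopfIdeal k A' (I.comap (f : A' →ₐ[k] A)) := by
  intro R _ _ g h hh a ha
  let I' := I.comap (f : A' →ₐ[k] A)
  let iL : A' →ₐ[k] A' ⊗[k] (A' ⧸ I') := Algebra.TensorProduct.includeLeft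
  let iR : A' →ₐ[k] A' ⊗[k] (A' ⧸ I') :=
    (Algebra.TensorProduct.includeRight : _ →ₐ[k] A' ⊗[k] (A' ⧸ I')).comp (qmap I')
  let j : A' ⊗[k] (A' ⧸ I') →ₐ[k] A ⊗[k] (A ⧸ I) :=
    Algebra.TensorProduct.map (f : A' →ₐ[k] A) (comapQ f I)
  have hj : Function.Injective j := by
    show Function.Injective (TensorProduct.map (f : A' →ₐ[k] A).toLinearMap
      (comapQ f I).toLinearMap)
    rw [← LinearMap.lTensor_comp_rTensor, LinearMap.coe_comp]
    exact (Module.Flat.lTensor_preserves_injective_linearMap _ (comapQ_injective f I)).comp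
      (Module.Flat.rTensor_preserves_injective_linearMap _ hf)
  have h0 := conv3_univ_eq_zero f I hf hI j hj iL iR
    (AlgHom.ext fun x => by simp [j, iL]) (AlgHom.ext fun x => by simp [j, iR]; rfl) ha
  let h' : A' ⧸ I' →ₐ[k] R := Ideal.Quotient.liftₐ _ h hh
  let φ := Algebra.TensorProduct.productMap g h'
  have e1 : φ.comp iL = g := AlgHom.ext fun x => by simp [φ, iL]
  have e2 : φ.comp iR = h := AlgHom.ext fun x => by simp [φ, iR]; rfl
  rw [← e1, ← e2, ← comp_conj, AlgHom.comp_apply, h0, map_zero]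

theorem comap_le (hI' : I.comap (f : A' →ₐ[k] A) ≤
      SGA3.augIdealSpan k A' (coinv k (I.comap (f : A' →ₐ[k] A)))) 
    {a : A'} (ha : f a ∈ I) : f a ∈ SGA3.augIdealSpan k A (coinv k I) := by
  have : SGA3.augIdealSpan k A' (coinv k (I.comap (f : A' →ₐ[k] A))) ≤
      (SGA3.augIdealSpan k A (coinv k I)).comap (f : A' →ₐ[k] A) := by
    refine Ideal.span_le.2 ?_
    rintro x ⟨hx, hε⟩
    refine Ideal.subset_span ⟨?_, (CoalgHomClass.counit_comp_apply f x).trans hε⟩
    rw [mem_coinv] at hx ⊢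
    have e := congrArg (Algebra.TensorProduct.map (f : A' →ₐ[k] A) (comapQ f I)) hx
    rw [Algebra.TensorProduct.map_tmul, map_one] at e
    refine Eq.trans ?_ e
    rw [← AlgHom.comp_apply (Algebra.TensorProduct.map (f : A' →ₐ[k] A) (comapQ f I)),
      ← Algebra.TensorProduct.map_comp]
    erw [← CoalgHomClass.map_comp_comul_apply f x]
    show Algebra.TensorProduct.map (AlgHom.id k A) (qmap (k := k) I)
      (Algebra.TensorProduct.map (f : A' →ₐ[k] A) (f : A' →ₐ[k] A)
        (CoalgebraStruct.comul (R := k) x)) = _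
    rw [← AlgHom.comp_apply, ← Algebra.TensorProduct.map_comp]
    rfl
  exact this (hI' ha)

end comap

/-- A normal Hopf ideal is generated by the augmentation ideal of its coinvariants. -/
theorem eq_augSpan_coinv (I : Ideal A) [I.IsHopfIdeal k] (hI : SGA3.IsNormalHopfIdeal k A I) :
    I = SGA3.augIdealSpan k A (coinv k I) := by
  refine le_antisymm ?_ augSpan_coinv_le
  intro a ha
  obtain ⟨B₀, haB, hfg, hB₀⟩ := exists_fg_isSubHopf (k := k) a
  let : HopfAlgebra k ↥B₀ := hopfAlgebra hB₀
  have : Algebra.FiniteType k ↥B₀ := (Subalgebra.fg_iff_finiteType B₀).1 hfg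
  let f : ↥B₀ →ₐc[k] A := BialgHom.ofAlgHom B₀.val rfl (AlgHom.ext fun b => map_δB hB₀ b)
  exact comap_le f I (le_augSpan_coinv_of_finiteType _
    (isNormal_comap f I Subtype.val_injective hI)) (show f ⟨a, haB⟩ ∈ I from ha)

end Groth.Agent.HopfFF
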