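/-
A sub-Hopf-algebra is the algebra of coinvariants of the ideal it generates.
-/
import Groth.Agent.HopfFFLib.Normal.Main

set_option autoImplicit false

universe u

open TensorProduct WithConv

namespace Groth.Agent.HopfFF

attribute [local instance] pointsGroup

variable {k : Type u} [Field k] {A : Type u} [CommRing A] [HopfAlgebra k A] {B : Subalgebra k A}
  {I : Ideal A} [I.IsHopfIdeal k]

theorem le_coinv_of_augSpan_le (hB : IsSubHopf k A B) (h : SGA3.augIdealSpan k A B ≤ I) :
    B ≤ coinv k I := by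
  intro x hx
  rw [mem_coinv]
  have hq : (qmap (k := k) I).comp B.val =
      ((Algebra.ofId k (A ⧸ I)).comp (Bialgebra.counitAlgHom k A)).comp B.val := by
    apply AlgHom.ext
    intro b
    have h0 : (b : A) - algebraMap k A (CoalgebraStruct.counit (R := k) (b : A)) ∈ I :=
      h (Ideal.subset_span ⟨sub_mem b.2 (B.algebraMap_mem _), by
        rw [map_sub, Bialgebra.counit_algebraMap, sub_self]⟩)
    rw [← qmap_eq_zero (k := k), map_sub, sub_eq_zero, AlgHom.commutes] at h0
    exact h0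
  unfold Semi
  rw [← map_δB hB ⟨x, hx⟩, ← AlgHom.comp_apply, ← Algebra.TensorProduct.map_comp, hq,
    AlgHom.id_comp]
  have key : ∀ z : ↥B ⊗[k] ↥B,
      Algebra.TensorProduct.map B.val
        (((Algebra.ofId k (A ⧸ I)).comp (Bialgebra.counitAlgHom k A)).comp B.val) z =
      (TensorProduct.rid k A (LinearMap.lTensor A (CoalgebraStruct.counit (R := k))
        (Algebra.TensorProduct.map B.val B.val z))) ⊗ₜ[k] (1 : A ⧸ I) := by
    intro z
    induction z using TensorProduct.induction_on with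
    | zero => simp
    | add v w hv hw => simp only [map_add, add_tmul, hv, hw]
    | tmul p q =>
      simp [Algebra.algebraMap_eq_smul_one, TensorProduct.tmul_smul, TensorProduct.smul_tmul']
  rw [key, map_δB, Coalgebra.lTensor_counit_comul, TensorProduct.rid_tmul, one_smul]

theorem coinv_le_of_le_augSpan (hB : IsSubHopf k A B) (h : I ≤ SGA3.augIdealSpan k A B) :
    coinv k I ≤ B := by
  intro x hx
  have : Module.FaithfullyFlat ↥B A := faithfullyFlat hB
  let inL : A →ₐ[k] A ⊗[↥B] A := Algebra.TensorProduct.includeLeft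
  let inR : A →ₐ[k] A ⊗[↥B] A :=
    (Algebra.TensorProduct.includeRight : A →ₐ[↥B] A ⊗[↥B] A).restrictScalars k
  have hLR : ∀ b : ↥B, inR (b : A) = inL (b : A) := fun b =>
    ((Algebra.TensorProduct.includeRight : A →ₐ[↥B] A ⊗[↥B] A).commutes b).trans
      ((Algebra.TensorProduct.includeLeft : A →ₐ[↥B] A ⊗[↥B] A).commutes b).symm
  let Θ : WithConv (A →ₐ[k] A ⊗[↥B] A) := (toConv inL)⁻¹ * toConv inR
  have hB' : ∀ b : ↥B, Θ.ofConv (b : A) =
      algebraMap k (A ⊗[↥B] A) (CoalgebraStruct.counit (R := k) (b : A)) := by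
    intro b
    let : HopfAlgebra k ↥B := hopfAlgebra hB
    let f : ↥B →ₐc[k] A := BialgHom.ofAlgHom B.val rfl (AlgHom.ext fun b => map_δB hB b)
    have e : inR.comp (f : ↥B →ₐ[k] A) = inL.comp (f : ↥B →ₐ[k] A) := AlgHom.ext hLR
    have h2 := AlgHom.convMul_comp_bialgHom_distrib
      (toConv (inL.comp (HopfAlgebra.antipodeAlgHom k A))) (toConv inR) f
    have h3 : (inL.comp (HopfAlgebra.antipodeAlgHom k A)).comp (f : ↥B →ₐ[k] A) =
        (inL.comp (f : ↥B →ₐ[k] A)).comp (HopfAlgebra.antipodeAlgHom k ↥B) :=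
      AlgHom.ext fun b => congrArg inL (map_antipode f b).symm
    rw [ofConv_toConv, ofConv_toConv, h3, e, conv_comp_antipode_mul] at h2
    exact AlgHom.congr_fun h2 b
  have hker : ∀ a ∈ I, Θ.ofConv a = 0 := by
    have : SGA3.augIdealSpan k A B ≤ RingHom.ker Θ.ofConv := by
      refine Ideal.span_le.2 ?_
      rintro y ⟨hy, hε⟩
      show Θ.ofConv y = 0
      rw [hB' ⟨y, hy⟩, hε, map_zero]
    exact fun a ha => this (h ha)
  let θ : (A ⧸ I) →ₐ[k] A ⊗[↥B] A := Ideal.Quotient.liftₐ I Θ.ofConv hker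
  have hx' := semi_apply (mem_coinv.1 hx) inL θ
  rw [show toConv (θ.comp (qmap I)) = Θ from rfl, mul_inv_cancel_left, map_one, mul_one] at hx'
  let R : Submodule ↥B A := LinearMap.range (Algebra.linearMap ↥B A)
  have h2 := congrArg (LinearMap.lTensor A R.mkQ) hx'
  change LinearMap.lTensor A R.mkQ ((1 : A) ⊗ₜ[↥B] x) =
    LinearMap.lTensor A R.mkQ (x ⊗ₜ[↥B] (1 : A)) at h2
  rw [LinearMap.lTensor_tmul, LinearMap.lTensor_tmul,
    show R.mkQ (1 : A) = 0 from (Submodule.Quotient.mk_eq_zero R).2 ⟨1, map_one (algebraMap ↥B A)⟩,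
    tmul_zero] at h2
  have h3 : R.mkQ x = 0 :=
    Module.FaithfullyFlat.tensorProduct_mk_injective (A := ↥B) (B := A) (A ⧸ R)
      (h2.trans (map_zero _).symm)
  obtain ⟨b, rfl⟩ := (Submodule.Quotient.mk_eq_zero R).1 h3
  exact b.2

end Groth.Agent.HopfFF
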